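import Cfsg.Agent.Lib.CosetEnum.Defs

/-!
# Matrices over the field with seven elements, rows packed 32 bits to an entry: the checks

A row is a natural number; a row times a matrix is a sum of at most `n` packed rows, reduced modulo
seven in all places at once by multiplying with `149797`, which is `2 ^ 20 / 7` rounded up.
-/

set_option autoImplicit false

namespace Cfsg.Lib.PackMat

open CosetEnum (force)

/-- The packing base. -/
def base : Nat := 4294967296

/-- Pack digits. -/
def pack : List Nat → Nat
  | [] => 0
  | a :: l => a + base * pack l

/-- Unpack digits. -/
noncomputable def unpack : Nat → Nat → List Nat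
  | 0, _ => []
  | n + 1, x => force x fun x => (x % base) :: unpack n (x / base)

/-- The twelve lowest bits of each of `n` places. -/
def maskOf (n : Nat) : Nat := pack (List.replicate n 4095)

/-- Linear combination of the rows, each given with the place of its coefficient. -/
noncomputable def comb (R : List (Nat × Nat)) (x : Nat) : Nat :=
  List.rec (motive := fun _ => Nat) 0
    (fun p _ ih => Nat.add (Nat.mul (Nat.land (Nat.shiftRight x p.1) 7) p.2) ih) R

/-- Reduce all places modulo seven. -/
noncomputable def reduce (mask y : Nat) : Nat :=
  Nat.sub y (Nat.mul 7 (Nat.land (Nat.shiftRight (Nat.mul y 149797) 20) mask))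

/-- A packed row times a matrix. -/
noncomputable def step (mask : Nat) (R : List (Nat × Nat)) (x : Nat) : Nat :=
  force (comb R x) fun y => reduce mask y

/-- A packed row times the product of a word read with the first letter last. -/
noncomputable def rowWord (mask : Nat) (M : Nat → List (Nat × Nat)) (x : Nat) (w : List Nat) : Nat :=
  List.rec (motive := fun _ => Nat) x (fun g _ ih => force ih fun y => step mask (M g) y) w

/-- A unit row times a scalar. -/
def unitRow (i c : Nat) : Nat := Nat.mul c (Nat.pow base i)

/-- The rows form a square matrix with reduced entries. -/
noncomputable def matOK (n : Nat) (R : List (Nat × Nat)) : Bool :=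
  Nat.beq R.length n && CosetEnum.beqW (R.map Prod.fst) ((List.range n).map fun i => 32 * i) &&
    R.all fun p => Nat.beq (pack (unpack n p.2)) p.2 && (unpack n p.2).all fun d => Nat.blt d 7

/-- The word acts as the scalar `c` on the rows from `lo` to below `lo + m`. -/
noncomputable def rowsOK (mask : Nat) (M : Nat → List (Nat × Nat)) (w : List Nat) (c lo m : Nat) :
    Bool :=
  (List.range' lo m).all fun i => Nat.beq (rowWord mask M (unitRow i 1) w) (unitRow i c)

end Cfsg.Lib.PackMat
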