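import Mathlib
import Cfsg.Agent.Lib.PackMat.Defs
import Cfsg.Agent.Lib.CosetEnum.Check

/-!
# Matrices over the field with seven elements, rows packed 32 bits to an entry: meaning of the checks
-/

set_option autoImplicit false

namespace Cfsg.Lib.PackMat

open CosetEnum (force force_eq)
open scoped Matrix

theorem base_pow : base = 2 ^ 32 := by decide

theorem getD_unpack : ∀ (n x i : ℕ), i < n → (unpack n x).getD i 0 = x / base ^ i % base
  | n + 1, x, 0, _ => by simp [unpack, force_eq]
  | n + 1, x, i + 1, h => by
    rw [unpack, force_eq, List.getD_cons_succ, getD_unpack n _ i (by omega), Nat.div_div_eq_div_mul,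
      pow_succ']

theorem length_unpack : ∀ n x : ℕ, (unpack n x).length = n
  | 0, _ => rfl
  | n + 1, x => by rw [unpack, force_eq, List.length_cons, length_unpack n]

theorem unpack_pack : ∀ {l : List ℕ}, (∀ d ∈ l, d < base) → unpack l.length (pack l) = l
  | [], _ => rfl
  | a :: l, h => by
    have ha : a < base := h a (by simp)
    rw [List.length_cons, unpack, force_eq, pack, Nat.add_mul_mod_self_left, Nat.mod_eq_of_lt ha,
      Nat.add_mul_div_left _ _ (by decide : 0 < base), Nat.div_eq_of_lt ha, zero_add,
      unpack_pack fun d hd => h d (by simp [hd])]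

theorem pack_map_mul (c : ℕ) : ∀ l : List ℕ, pack (l.map (· * c)) = pack l * c
  | [] => by simp [pack]
  | a :: l => by rw [List.map_cons, pack, pack, pack_map_mul c l]; ring

theorem pack_mod_div (p : ℕ) : ∀ l : List ℕ,
    pack l = pack (l.map (· % p)) + p * pack (l.map (· / p))
  | [] => by simp [pack]
  | a :: l => by
    simp only [List.map_cons, pack]
    conv_lhs => rw [pack_mod_div p l, ← Nat.mod_add_div a p]
    ring

theorem land_split (a m' : ℕ) {m : ℕ} (hm : m < base) :
    a &&& (m + base * m') = (a % base &&& m) + base * (a / base &&& m') := by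
  rw [base_pow] at hm ⊢
  refine Nat.eq_of_testBit_eq fun i => ?_
  rw [Nat.testBit_and, add_comm m, add_comm (_ &&& m),
    Nat.testBit_two_pow_mul_add _ hm,
    Nat.testBit_two_pow_mul_add _ (Nat.and_lt_two_pow _ hm)]
  split
  · next h => rw [Nat.testBit_and, Nat.testBit_mod_two_pow]; simp [h]
  · next h =>
    rw [Nat.testBit_and, Nat.testBit_div_two_pow, Nat.sub_add_cancel (Nat.le_of_not_lt h)]

theorem shift_land : ∀ {l : List ℕ}, (∀ d ∈ l, d < base) →
    pack l / 2 ^ 20 &&& maskOf l.length = pack (l.map (· / 2 ^ 20))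
  | [], _ => by simp [pack, maskOf]
  | a :: l, h => by
    have ha : a < base := h a (by simp)
    have ih := shift_land (l := l) fun d hd => h d (by simp [hd])
    simp only [maskOf] at ih ⊢
    rw [List.length_cons, List.replicate_succ, pack, pack, land_split _ _ (by decide), List.map_cons,
      pack, ← ih]
    have e : (a + base * pack l) / 2 ^ 20 = a / 2 ^ 20 + pack l * 4096 := by
      rw [show base * pack l = pack l * 4096 * 2 ^ 20 by simp [base]; ring,
        Nat.add_mul_div_right _ _ (by norm_num)]
    have hd : ((a + base * pack l) / 2 ^ 20) / base = pack l / 2 ^ 20 := by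
      rw [Nat.div_div_eq_div_mul, mul_comm (2 ^ 20), ← Nat.div_div_eq_div_mul,
        Nat.add_mul_div_left _ _ (by decide : 0 < base), Nat.div_eq_of_lt ha, zero_add]
    have hm : (a + base * pack l) / 2 ^ 20 % base &&& 4095 = a / 2 ^ 20 := by
      rw [show (4095 : ℕ) = 2 ^ 12 - 1 from rfl, Nat.and_two_pow_sub_one_eq_mod,
        Nat.mod_mod_of_dvd _ (by decide), e]
      rw [show (2 : ℕ) ^ 12 = 4096 from rfl, Nat.add_mul_mod_self_right]
      refine Nat.mod_eq_of_lt ((Nat.div_lt_iff_lt_mul (by norm_num)).2 ?_)
      simpa [base] using ha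
    rw [hm, hd]

/-- The magic multiplier. -/
theorem magic : ∀ d, d < 2048 → d * 149797 / 2 ^ 20 = d / 7 := by
  have h : ((List.range 2048).all fun d => Nat.beq (d * 149797 / 2 ^ 20) (d / 7)) = true := by
    decide +kernel
  exact fun d hd => Nat.eq_of_beq_eq_true (List.all_eq_true.1 h d (List.mem_range.2 hd))

theorem reduce_pack {l : List ℕ} (h : ∀ d ∈ l, d < 2048) :
    reduce (maskOf l.length) (pack l) = pack (l.map (· % 7)) := by
  have h' : ∀ d ∈ l.map (· * 149797), d < base := by
    intro d hd
    obtain ⟨e, he, rfl⟩ := List.mem_map.1 hd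
    have := h e he
    simp only [base]; omega
  have e := shift_land h'
  rw [List.length_map, pack_map_mul, List.map_map] at e
  have e' : l.map ((· / 2 ^ 20) ∘ (· * 149797)) = l.map (· / 7) :=
    List.map_congr_left fun d hd => magic d (h d hd)
  rw [e'] at e
  show pack l - 7 * ((pack l * 149797) >>> 20 &&& maskOf l.length) = _
  rw [Nat.shiftRight_eq_div_pow, e]
  have := pack_mod_div 7 l
  omega

/-- Linear combination of rows given as digit lists. -/
def combL (n : ℕ) : List ℕ → List (List ℕ) → List ℕ
  | a :: v, r :: R => List.zipWith (fun x y => a * x + y) r (combL n v R)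
  | _, _ => List.replicate n 0

theorem length_combL (n : ℕ) : ∀ (v : List ℕ) (R : List (List ℕ)), (∀ r ∈ R, r.length = n) →
    (combL n v R).length = n
  | [], _, _ => by simp [combL]
  | _ :: _, [], _ => by simp [combL]
  | a :: v, r :: R, h => by
    simp [combL, length_combL n v R fun r hr => h r (by simp [hr]), h r (by simp)]

theorem pack_zip (a : ℕ) : ∀ {r s : List ℕ}, r.length = s.length →
    pack (List.zipWith (fun x y => a * x + y) r s) = a * pack r + pack s
  | [], [], _ => by simp [pack]
  | x :: r, y :: s, h => by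
    simp only [List.zipWith_cons_cons, pack, pack_zip a (by simpa using h)]
    ring

theorem pack_replicate : ∀ n : ℕ, pack (List.replicate n 0) = 0
  | 0 => rfl
  | n + 1 => by simp [List.replicate_succ, pack, pack_replicate n]

theorem comb_eq_pack (n x : ℕ) : ∀ (R : List (ℕ × ℕ)), (∀ p ∈ R, pack (unpack n p.2) = p.2) →
    comb R x = pack (combL n (R.map fun p => x >>> p.1 &&& 7) (R.map fun p => unpack n p.2))
  | [], _ => by simp [comb, combL, pack_replicate]
  | p :: R, h => by
    have ih := comb_eq_pack n x R fun q hq => h q (by simp [hq])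
    show (x >>> p.1 &&& 7) * p.2 + comb R x = _
    rw [List.map_cons, List.map_cons, combL, pack_zip _ (by
      rw [length_unpack, length_combL n _ _ fun r hr => by
        obtain ⟨q, -, rfl⟩ := List.mem_map.1 hr
        exact length_unpack n _]), ← ih, h p (by simp)]

theorem getD_combL (n j : ℕ) : ∀ (v : List ℕ) (R : List (List ℕ)), (∀ r ∈ R, r.length = n) →
    v.length = R.length → (combL n v R).getD j 0 =
      ∑ i ∈ Finset.range v.length, v.getD i 0 * (R.getD i []).getD j 0
  | [], [], _, _ => by
    simp only [combL, List.length_nil, Finset.range_zero, Finset.sum_empty]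
    rw [List.getD_eq_getElem?_getD, List.getElem?_replicate]
    split <;> rfl
  | a :: v, r :: R, h, hl => by
    have hR : ∀ r ∈ R, r.length = n := fun r hr => h r (by simp [hr])
    rw [combL, List.length_cons, Finset.sum_range_succ']
    simp only [List.getD_cons_succ, List.getD_cons_zero]
    rw [← getD_combL n j v R hR (by simpa using hl)]
    by_cases hj : j < n
    · have h1 : j < r.length := by rw [h r (by simp)]; exact hj
      have h2 : j < (combL n v R).length := by rw [length_combL n v R hR]; exact hj
      rw [List.getD_eq_getElem _ _ (by simp [h1, h2]), List.getElem_zipWith,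
        List.getD_eq_getElem _ _ h1, List.getD_eq_getElem _ _ h2, add_comm]
    · have h1 : r.length ≤ j := by rw [h r (by simp)]; omega
      have h2 : (combL n v R).length ≤ j := by rw [length_combL n v R hR]; omega
      rw [List.getD_eq_default _ _ (by simp; omega), List.getD_eq_default _ _ h1,
        List.getD_eq_default _ _ h2]
      simp

variable {n : ℕ}

/-- The row of a packed number. -/
noncomputable def toVec (n x : ℕ) : Fin n → ZMod 7 := fun j => ((unpack n x).getD j.1 0 : ℕ)

/-- The matrix of packed rows. -/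
noncomputable def toMat (n : ℕ) (R : List (ℕ × ℕ)) : Matrix (Fin n) (Fin n) (ZMod 7) :=
  Matrix.of fun i => toVec n (R.getD i.1 (0, 0)).2

/-- All places hold reduced entries. -/
def Reduced (n x : ℕ) : Prop := ∀ d ∈ unpack n x, d < 7

theorem beqW_eq : ∀ {l m : List ℕ}, CosetEnum.beqW l m = true → l = m
  | [], [], _ => rfl
  | a :: l, b :: m, h => by
    simp only [CosetEnum.beqW, Bool.and_eq_true, Nat.beq_eq] at h
    rw [h.1, beqW_eq h.2]
  | [], _ :: _, h => by simp [CosetEnum.beqW] at h
  | _ :: _, [], h => by simp [CosetEnum.beqW] at h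

theorem matOK_spec {R : List (ℕ × ℕ)} (h : matOK n R = true) : R.length = n ∧
    R.map Prod.fst = (List.range n).map (32 * ·) ∧
    ∀ p ∈ R, pack (unpack n p.2) = p.2 ∧ Reduced n p.2 := by
  simp only [matOK, Bool.and_eq_true, Nat.beq_eq, List.all_eq_true, Nat.blt_eq] at h
  exact ⟨h.1.1, beqW_eq h.1.2, fun p hp => h.2 p hp⟩

theorem toVec_step (hn : n ≤ 56) {R : List (ℕ × ℕ)} (hR : matOK n R = true) {x : ℕ}
    (hx : Reduced n x) :
    toVec n (step (maskOf n) R x) = toVec n x ᵥ* toMat n R ∧ Reduced n (step (maskOf n) R x) := by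
  obtain ⟨hlen, hfst, hrow⟩ := matOK_spec hR
  let RL := R.map fun p => unpack n p.2
  have hRL : ∀ r ∈ RL, r.length = n := by
    intro r hr
    obtain ⟨y, -, rfl⟩ := List.mem_map.1 hr
    exact length_unpack n _
  have hv : (R.map fun p => x >>> p.1 &&& 7) = unpack n x := by
    refine List.ext_getElem (by rw [List.length_map, hlen, length_unpack]) fun i h1 h2 => ?_
    rw [length_unpack] at h2
    have hi : (R[i]'(by omega)).1 = 32 * i := by
      have := congrArg (fun l => l.getD i 0) hfst
      simp only [List.getD_eq_getElem?_getD, List.getElem?_map, List.getElem?_range h2,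
        List.getElem?_eq_getElem (show i < R.length by omega), Option.map_some,
        Option.getD_some] at this
      exact this
    have hd := getD_unpack n x i h2
    rw [List.getD_eq_getElem _ _ (by rwa [length_unpack])] at hd
    have hlt := hx _ (List.getElem_mem (show i < (unpack n x).length by rwa [length_unpack]))
    rw [List.getElem_map, hi, Nat.shiftRight_eq_div_pow,
      show (7 : ℕ) = 2 ^ 3 - 1 from rfl, Nat.and_two_pow_sub_one_eq_mod, hd, base_pow, ← pow_mul]
    rw [hd, base_pow, ← pow_mul] at hlt
    rw [← Nat.mod_mod_of_dvd (x / 2 ^ (32 * i)) (show 2 ^ 3 ∣ 2 ^ 32 by decide),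
      Nat.mod_eq_of_lt (by omega)]
  let C := combL n (unpack n x) RL
  have hC : ∀ j, C.getD j 0 = ∑ i ∈ Finset.range n,
      (unpack n x).getD i 0 * (RL.getD i []).getD j 0 := by
    intro j
    have := getD_combL n j (unpack n x) RL hRL
      (by rw [length_unpack, List.length_map, hlen])
    rwa [length_unpack] at this
  have hsmall : ∀ l : List ℕ, (∀ d ∈ l, d < 7) → ∀ i, l.getD i 0 ≤ 6 := by
    intro l hl i
    by_cases hi : i < l.length
    · rw [List.getD_eq_getElem _ _ hi]
      have := hl _ (List.getElem_mem hi)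
      omega
    · rw [List.getD_eq_default _ _ (by omega)]; omega
  have hCb : ∀ d ∈ C, d < 2048 := by
    intro d hd
    obtain ⟨j, hj, rfl⟩ := List.mem_iff_getElem.1 hd
    rw [← List.getD_eq_getElem C 0 hj, hC]
    refine lt_of_le_of_lt ((Finset.sum_le_card_nsmul _ _ 36 fun i hi => ?_).trans
      (le_of_eq (by rw [Finset.card_range, smul_eq_mul]))) (by omega)
    refine Nat.mul_le_mul (hsmall _ hx i) (hsmall _ (fun d hd => ?_) j)
    rw [Finset.mem_range] at hi
    rw [List.getD_eq_getElem _ _ (by rw [List.length_map, hlen]; exact hi),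
      List.getElem_map] at hd
    exact (hrow _ (List.getElem_mem _)).2 d hd
  have hCl : C.length = n := length_combL n _ RL hRL
  have hs : step (maskOf n) R x = pack (C.map (· % 7)) := by
    have := reduce_pack hCb
    rw [hCl] at this
    rw [step, force_eq, comb_eq_pack n x R fun p hp => (hrow p hp).1, hv]
    exact this
  have hu : unpack n (step (maskOf n) R x) = C.map (· % 7) := by
    rw [hs]
    have := unpack_pack (l := C.map (· % 7)) (by
      intro d hd
      obtain ⟨e, -, rfl⟩ := List.mem_map.1 hd
      exact (Nat.mod_lt _ (by norm_num)).trans (by decide))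
    rwa [List.length_map, hCl] at this
  refine ⟨?_, fun d hd => ?_⟩
  · funext j
    have hj : (C.map (· % 7)).getD j.1 0 = C.getD j.1 0 % 7 := by
      rw [List.getD_eq_getElem _ _ (by rw [List.length_map, hCl]; exact j.2), List.getElem_map,
        List.getD_eq_getElem]
    simp only [toVec, hu, hj, ZMod.natCast_mod, hC, Nat.cast_sum, Nat.cast_mul]
    rw [Finset.sum_range]
    refine Finset.sum_congr rfl fun i _ => ?_
    simp only [toMat, Matrix.of_apply, toVec]
    rw [List.getD_eq_getElem RL _ (by rw [List.length_map, hlen]; exact i.2), List.getElem_map,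
      List.getD_eq_getElem R _ (by rw [hlen]; exact i.2)]
  · rw [hu, List.mem_map] at hd
    obtain ⟨e, -, rfl⟩ := hd
    exact Nat.mod_lt _ (by norm_num)

/-- The product of a word read with the first letter last. -/
noncomputable def matWord (n : ℕ) (M : ℕ → List (ℕ × ℕ)) :
    List ℕ → Matrix (Fin n) (Fin n) (ZMod 7)
  | [] => 1
  | g :: w => matWord n M w * toMat n (M g)

theorem toVec_rowWord (hn : n ≤ 56) (M : ℕ → List (ℕ × ℕ)) :
    ∀ {w : List ℕ}, (∀ g ∈ w, matOK n (M g) = true) → ∀ {x : ℕ}, Reduced n x →
      toVec n (rowWord (maskOf n) M x w) = toVec n x ᵥ* matWord n M w ∧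
        Reduced n (rowWord (maskOf n) M x w)
  | [], _, x, hx => ⟨by simp [rowWord, matWord], hx⟩
  | g :: w, hw, x, hx => by
    obtain ⟨h1, h2⟩ := toVec_rowWord hn M (w := w) (fun a ha => hw a (by simp [ha])) hx
    obtain ⟨h3, h4⟩ := toVec_step hn (hw g (by simp)) h2
    have e : rowWord (maskOf n) M x (g :: w) =
        step (maskOf n) (M g) (rowWord (maskOf n) M x w) := force_eq _ _
    rw [e, matWord, ← Matrix.vecMul_vecMul, ← h1]
    exact ⟨h3, h4⟩

theorem unpack_unitRow {c : ℕ} (hc : c < 7) : ∀ {n i : ℕ}, i < n →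
    unpack n (unitRow i c) = (List.range n).map fun j => if j = i then c else 0 := by
  intro n i hi
  refine List.ext_getElem (by simp [length_unpack]) fun j h1 h2 => ?_
  rw [length_unpack] at h1
  rw [← List.getD_eq_getElem _ 0, getD_unpack n _ j h1, List.getElem_map, List.getElem_range]
  show c * base ^ i / base ^ j % base = _
  rcases lt_trichotomy j i with h | rfl | h
  · rw [if_neg h.ne, show i = j + ((i - j - 1) + 1) by omega, pow_add base j, ← mul_assoc,
      mul_comm c, mul_assoc, Nat.mul_div_cancel_left _ (pow_pos (by decide) _), pow_succ, ← mul_assoc,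
      Nat.mul_mod_left]
  · rw [if_pos rfl, Nat.mul_div_cancel _ (pow_pos (by decide) _), Nat.mod_eq_of_lt (hc.trans (by decide))]
  · rw [if_neg h.ne', Nat.div_eq_of_lt, Nat.zero_mod]
    calc c * base ^ i < base * base ^ i :=
          Nat.mul_lt_mul_of_pos_right (hc.trans (by decide)) (pow_pos (by decide) _)
      _ = base ^ (i + 1) := (pow_succ' _ _).symm
      _ ≤ base ^ j := Nat.pow_le_pow_right (by decide) h

theorem toVec_unitRow {c : ℕ} (hc : c < 7) {i : Fin n} :
    toVec n (unitRow i.1 c) = (fun j : Fin n => if j = i then (c : ZMod 7) else 0) ∧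
      Reduced n (unitRow i.1 c) := by
  refine ⟨funext fun j => ?_, fun d hd => ?_⟩
  · rw [toVec, unpack_unitRow hc i.2, List.getD_eq_getElem _ _ (by simp), List.getElem_map,
      List.getElem_range]
    by_cases h : j = i
    · simp [h]
    · simp [h, Fin.val_ne_of_ne h]
  · rw [unpack_unitRow hc i.2, List.mem_map] at hd
    obtain ⟨j, -, rfl⟩ := hd
    split <;> omega

theorem wordOK_sound (hn : n ≤ 56) {mask : ℕ} (hmask : mask = maskOf n) (M : ℕ → List (ℕ × ℕ))
    {w : List ℕ} (hw : ∀ g ∈ w, matOK n (M g) = true) {c : ℕ} (hc : c < 7)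
    (h : ∀ i < n, rowWord mask M (unitRow i 1) w = unitRow i c) : matWord n M w = (c : ZMod 7) • 1 := by
  subst hmask
  ext i j
  have hi := h i.1 i.2
  obtain ⟨e1, r1⟩ := toVec_unitRow (n := n) (i := i) (c := 1) (by norm_num)
  have h1 := (toVec_rowWord hn M hw r1).1
  rw [hi, (toVec_unitRow hc).1, e1] at h1
  have e : (fun j : Fin n => if j = i then ((1 : ℕ) : ZMod 7) else 0) = Pi.single i 1 := by
    funext k
    simp [Pi.single_apply]
  rw [e, Matrix.single_one_vecMul] at h1
  have h2 := congrFun h1 j
  rw [Matrix.smul_apply, Matrix.one_apply, smul_eq_mul]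
  simp only [Matrix.row] at h2
  rw [← h2]
  simp [eq_comm]

theorem rowsOK_get {mask : ℕ} {M : ℕ → List (ℕ × ℕ)} {w : List ℕ} {c lo m : ℕ}
    (h : rowsOK mask M w c lo m = true) {i : ℕ} (h1 : lo ≤ i) (h2 : i < lo + m) :
    rowWord mask M (unitRow i 1) w = unitRow i c :=
  Nat.eq_of_beq_eq_true (List.all_eq_true.1 h i (List.mem_range'_1.2 ⟨h1, h2⟩))

end Cfsg.Lib.PackMat
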